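import Mathlib
import Cfsg.Agent.Lib.Coprime.Basic

/-!
`Q` a `p'`-group and `E` a `p`-group normalising `Q`, both acting on a `p`-group `P`.
If `Q` centralises `C_P(E)` and `p` is odd, or `E` acts quadratically and `Q` is faithful, then
`Q` centralises `P`.
-/

set_option autoImplicit false

namespace Cfsg.Agent.Lib.Transitivity

open Subgroup
open scoped commutatorElement

section Baer

variable {P : Type*} [Group P]

/-- The Baer addition of a group of class at most two, with respect to `h`. -/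
def baerAdd (h : ℕ) (x y : P) : P := ⁅y, x⁆ ^ h * (x * y)

theorem commutator_mul_left_of_central (hcl : ∀ a b c : P, ⁅a, b⁆ * c = c * ⁅a, b⁆) (a b c : P) :
    ⁅a * b, c⁆ = ⁅a, c⁆ * ⁅b, c⁆ := by
  have e : ⁅a * b, c⁆ = a * ⁅b, c⁆ * a⁻¹ * ⁅a, c⁆ := by
    simp only [commutatorElement_def]; group
  rw [e, ← hcl b c a, mul_inv_cancel_right, hcl b c]

theorem commutator_mul_right_of_central (hcl : ∀ a b c : P, ⁅a, b⁆ * c = c * ⁅a, b⁆) (a b c : P) :
    ⁅a, b * c⁆ = ⁅a, b⁆ * ⁅a, c⁆ := by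
  have e : ⁅a, b * c⁆ = ⁅a, b⁆ * (b * ⁅a, c⁆ * b⁻¹) := by
    simp only [commutatorElement_def]; group
  rw [e, ← hcl a c b, mul_inv_cancel_right]

theorem commutator_commutator_left (hcl : ∀ a b c : P, ⁅a, b⁆ * c = c * ⁅a, b⁆) (a b c : P) (n : ℕ) :
    ⁅⁅a, b⁆ ^ n, c⁆ = 1 :=
  commutatorElement_eq_one_iff_commute.mpr ((show Commute ⁅a, b⁆ c from hcl a b c).pow_left n)

theorem commutator_commutator_right (hcl : ∀ a b c : P, ⁅a, b⁆ * c = c * ⁅a, b⁆) (a b c : P) (n : ℕ) :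
    ⁅c, ⁅a, b⁆ ^ n⁆ = 1 :=
  commutatorElement_eq_one_iff_commute.mpr ((show Commute ⁅a, b⁆ c from hcl a b c).pow_left n).symm

theorem baerAdd_assoc (h : ℕ) (hcl : ∀ a b c : P, ⁅a, b⁆ * c = c * ⁅a, b⁆) (x y z : P) :
    baerAdd h (baerAdd h x y) z = baerAdd h x (baerAdd h y z) := by
  unfold baerAdd
  rw [commutator_mul_right_of_central hcl z (⁅y, x⁆ ^ h) (x * y), commutator_commutator_right hcl,
    one_mul, commutator_mul_left_of_central hcl (⁅z, y⁆ ^ h) (y * z) x,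
    commutator_commutator_left hcl, one_mul,
    commutator_mul_right_of_central hcl z x y, commutator_mul_left_of_central hcl y z x]
  have c1 : ∀ a b : P, ∀ w : P, Commute (⁅a, b⁆ ^ h) w := fun a b w =>
    (show Commute ⁅a, b⁆ w from hcl a b w).pow_left h
  rw [Commute.mul_pow (show Commute ⁅z, x⁆ ⁅z, y⁆ from hcl z x _),
    Commute.mul_pow (show Commute ⁅y, x⁆ ⁅z, x⁆ from hcl y x _)]
  calc ⁅z, x⁆ ^ h * ⁅z, y⁆ ^ h * (⁅y, x⁆ ^ h * (x * y) * z)
      = ⁅z, x⁆ ^ h * (⁅z, y⁆ ^ h * ⁅y, x⁆ ^ h) * (x * (y * z)) := by simp only [mul_assoc]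
    _ = ⁅z, x⁆ ^ h * (⁅y, x⁆ ^ h * ⁅z, y⁆ ^ h) * (x * (y * z)) := by rw [(c1 z y _).eq]
    _ = (⁅z, x⁆ ^ h * ⁅y, x⁆ ^ h) * (⁅z, y⁆ ^ h * x) * (y * z) := by simp only [mul_assoc]
    _ = (⁅y, x⁆ ^ h * ⁅z, x⁆ ^ h) * (x * ⁅z, y⁆ ^ h) * (y * z) := by
          rw [(c1 z y x).eq, (c1 z x _).eq]
    _ = ⁅y, x⁆ ^ h * ⁅z, x⁆ ^ h * (x * (⁅z, y⁆ ^ h * (y * z))) := by simp only [mul_assoc]

theorem baerAdd_comm (h : ℕ) (hcl : ∀ a b c : P, ⁅a, b⁆ * c = c * ⁅a, b⁆)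
    (hh : ∀ a b : P, ⁅a, b⁆ ^ (2 * h) = ⁅a, b⁆) (x y : P) : baerAdd h x y = baerAdd h y x := by
  unfold baerAdd
  have e : y * x = ⁅y, x⁆ * (x * y) := by simp only [commutatorElement_def]; group
  rw [e, ← mul_assoc (⁅x, y⁆ ^ h)]
  congr 1
  have hi : ⁅x, y⁆ = ⁅y, x⁆⁻¹ := (commutatorElement_inv y x).symm
  rw [hi, inv_pow]
  calc ⁅y, x⁆ ^ h = (⁅y, x⁆ ^ h)⁻¹ * ⁅y, x⁆ ^ (2 * h) := by rw [two_mul, pow_add]; group
    _ = (⁅y, x⁆ ^ h)⁻¹ * ⁅y, x⁆ := by rw [hh]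

/-- The Baer abelian group on a group of class two. -/
@[reducible]
def baerGroup (h : ℕ) (hcl : ∀ a b c : P, ⁅a, b⁆ * c = c * ⁅a, b⁆)
    (hh : ∀ a b : P, ⁅a, b⁆ ^ (2 * h) = ⁅a, b⁆) : AddCommGroup P where
  add := baerAdd h
  zero := (1 : P)
  neg := fun x => x⁻¹
  add_assoc := baerAdd_assoc h hcl
  zero_add := fun x => show baerAdd h 1 x = x by simp [baerAdd]
  add_zero := fun x => show baerAdd h x 1 = x by simp [baerAdd]
  neg_add_cancel := fun x => show baerAdd h x⁻¹ x = 1 by simp [baerAdd, commutatorElement_def]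
  add_comm := baerAdd_comm h hcl hh
  nsmul := @nsmulRec P ⟨(1 : P)⟩ ⟨baerAdd h⟩
  zsmul := @zsmulRec P ⟨(1 : P)⟩ ⟨baerAdd h⟩ ⟨fun x => x⁻¹⟩
    (@nsmulRec P ⟨(1 : P)⟩ ⟨baerAdd h⟩)

theorem nsmul_baer (h : ℕ) (hcl : ∀ a b c : P, ⁅a, b⁆ * c = c * ⁅a, b⁆)
    (hh : ∀ a b : P, ⁅a, b⁆ ^ (2 * h) = ⁅a, b⁆) (n : ℕ) (x : P) :
    letI := baerGroup h hcl hh
    n • x = x ^ n := by
  letI := baerGroup h hcl hh
  induction n with
  | zero => rw [zero_nsmul, pow_zero]; rfl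
  | succ n ih =>
    rw [succ_nsmul, ih, pow_succ]
    show baerAdd h (x ^ n) x = _
    have : ⁅x, x ^ n⁆ = 1 :=
      commutatorElement_eq_one_iff_commute.mpr (Commute.self_pow x n)
    simp [baerAdd, this]

/-- A group of automorphisms of order prime to `p` of a `p`-group of class two, normalised by a
`p`-group of automorphisms and trivial on the fixed points of the latter, is trivial (`p` odd). -/
theorem trivial_of_fixed_fixed [Finite P] {p : ℕ} [Fact p.Prime] (hp : p ≠ 2) (hP : IsPGroup p P)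
    (hcl : ∀ a b c : P, ⁅a, b⁆ * c = c * ⁅a, b⁆) (Q E : Subgroup (MulAut P))
    (hQ : (Nat.card Q).Coprime p) (hE : IsPGroup p E)
    (hEQ : ∀ e ∈ E, ∀ q ∈ Q, e * q * e⁻¹ ∈ Q)
    (hfix : ∀ x : P, (∀ e ∈ E, e x = x) → ∀ q ∈ Q, q x = x) :
    ∀ q ∈ Q, ∀ x : P, q x = x := by
  classical
  obtain ⟨k, hk⟩ := IsPGroup.iff_card.mp hP
  have hodd : Odd (Nat.card P) := hk ▸ ((Fact.out : p.Prime).odd_of_ne_two hp).pow
  obtain ⟨j, hj⟩ := hodd
  have hh : ∀ a b : P, ⁅a, b⁆ ^ (2 * (j + 1)) = ⁅a, b⁆ := fun a b => by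
    rw [show 2 * (j + 1) = Nat.card P + 1 by omega, pow_succ, pow_card_eq_one', one_mul]
  letI := baerGroup (j + 1) hcl hh
  have haut : ∀ (f : MulAut P) (x y : P), f (x + y) = f x + f y := fun f x y => by
    show f (baerAdd _ x y) = baerAdd _ (f x) (f y)
    simp [baerAdd, map_mul, map_pow, map_commutatorElement]
  letI : Fintype Q := Fintype.ofFinite Q
  let φ : P →+ P := AddMonoidHom.mk' (fun x => ∑ q : Q, (q : MulAut P) x) fun x y => by
    simp [haut, Finset.sum_add_distrib]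
  have hφq : ∀ (q : Q) (x : P), φ ((q : MulAut P) x) = φ x := fun q x =>
    Fintype.sum_equiv (Equiv.mulRight q) _ _ fun r => rfl
  intro q hq x
  by_contra hne
  have hk0 : (q x : P) - x ∈ φ.ker := by
    rw [AddMonoidHom.mem_ker, map_sub, hφq ⟨q, hq⟩, sub_self]
  -- `E` acts on the kernel of the norm
  letI : SMul E φ.ker := ⟨fun e y => ⟨(e : MulAut P) y, by
    have hy : φ y = 0 := y.2
    rw [AddMonoidHom.mem_ker]
    have hf : ∀ (f : MulAut P) (s : Q → P), f (∑ r, s r) = ∑ r, f (s r) := fun f s =>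
      map_sum (AddMonoidHom.mk' (fun z => f z) (haut f)) s _
    let σ : Q ≃ Q :=
      { toFun := fun r => ⟨(e : MulAut P) * r * (e : MulAut P)⁻¹, hEQ _ e.2 _ r.2⟩
        invFun := fun r => ⟨(e : MulAut P)⁻¹ * r * (e : MulAut P), by
          simpa using hEQ _ (E.inv_mem e.2) _ r.2⟩
        left_inv := fun r => Subtype.ext (by simp [mul_assoc])
        right_inv := fun r => Subtype.ext (by simp [mul_assoc]) }
    have : φ ((e : MulAut P) y) = (e : MulAut P) (φ y) := by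
      simp only [φ, AddMonoidHom.mk'_apply]
      rw [hf]
      symm
      refine Fintype.sum_equiv σ _ _ fun r => ?_
      simp [σ]
    rw [this, hy]
    exact map_one (e : MulAut P)⟩⟩
  letI : MulAction E φ.ker :=
    { one_smul := fun y => Subtype.ext rfl
      mul_smul := fun a b y => Subtype.ext rfl }
  have hdvd : p ∣ Nat.card φ.ker := by
    have h1 := φ.ker.card_addSubgroup_dvd_card
    obtain ⟨m, -, hm⟩ := (Nat.dvd_prime_pow (Fact.out : p.Prime)).mp (hk ▸ h1)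
    rcases Nat.eq_zero_or_pos m with rfl | hm0
    · rw [pow_zero] at hm
      haveI : Subsingleton φ.ker := (Nat.card_eq_one_iff_unique.mp hm).1
      exact absurd (sub_eq_zero.mp (congrArg Subtype.val
        (Subsingleton.elim (⟨_, hk0⟩ : φ.ker) 0))) hne
    · exact hm ▸ dvd_pow_self p hm0.ne'
  obtain ⟨z, hz, hz0⟩ := hE.exists_fixed_point_of_prime_dvd_card_of_fixed_point (α := φ.ker) hdvd
    (a := 0) (fun e => Subtype.ext (map_one (e : MulAut P)))
  have hzf : ∀ r ∈ Q, r (z : P) = z := hfix z fun e he => congrArg Subtype.val (hz ⟨e, he⟩)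
  have h2 : φ z = Nat.card Q • (z : P) := by
    simp only [φ, AddMonoidHom.mk'_apply]
    rw [Finset.sum_congr rfl (fun r _ => hzf _ r.2), Finset.sum_const, Finset.card_univ,
      Nat.card_eq_fintype_card]
  rw [show φ z = 0 from z.2, nsmul_baer] at h2
  refine hz0 (Subtype.ext ?_)
  show (1 : P) = z
  symm
  rw [← orderOf_eq_one_iff]
  exact Nat.eq_one_of_dvd_coprimes (hk ▸ hQ.pow_right k) (orderOf_dvd_of_pow_eq_one h2.symm)
    (orderOf_dvd_natCard _)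

end Baer

end Cfsg.Agent.Lib.Transitivity
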