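import Mathlib
import Cfsg.Agent.Lib.Coprime.Basic
import Cfsg.Agent.Lib.Transitivity.Baer

/-!
Coprime action lemmas behind the transitivity theorem.
-/

set_option autoImplicit false

namespace Cfsg.Agent.Lib.Transitivity

open Subgroup
open scoped commutatorElement

variable {G : Type*} [Group G]

/-- Internal version of `trivial_of_fixed_fixed` for a subgroup of class two. -/
theorem le_centralizer_of_class_two [Finite G] {p : ℕ} [Fact p.Prime] (hp : p ≠ 2) {P Q E : Subgroup G}
    (hP : IsPGroup p P) (hQ : (Nat.card Q).Coprime p) (hE : IsPGroup p E)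
    (hQP : Q ≤ normalizer (P : Set G)) (hEP : E ≤ normalizer (P : Set G))
    (hEQ : E ≤ normalizer (Q : Set G)) (hcl : ∀ a ∈ P, ∀ b ∈ P, ∀ c ∈ P, ⁅a, b⁆ * c = c * ⁅a, b⁆)
    (hC : P ⊓ centralizer (E : Set G) ≤ centralizer (Q : Set G)) : Q ≤ centralizer (P : Set G) := by
  let ψ : normalizer (P : Set G) →* MulAut P := P.normalizerMonoidHom
  have hψ : ∀ (g : normalizer (P : Set G)) (x : P), (ψ g x : G) = g * x * (g : G)⁻¹ :=
    fun g x => rfl
  have key := trivial_of_fixed_fixed hp hP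
    (fun a b c => Subtype.ext (by simpa [commutatorElement_def] using hcl a a.2 b b.2 c c.2))
    ((Q.subgroupOf (normalizer (P : Set G))).map ψ) ((E.subgroupOf (normalizer (P : Set G))).map ψ)
    (by
      refine Nat.Coprime.coprime_dvd_left ?_ hQ
      exact (card_map_dvd _ ψ).trans
        (dvd_of_eq (Nat.card_congr (subgroupOfEquivOfLe hQP).toEquiv)))
    (((show IsPGroup p (E.subgroupOf (normalizer (P : Set G))) from hE.comap_subtype)).map ψ)
    (by
      rintro _ ⟨e, he, rfl⟩ _ ⟨q, hq, rfl⟩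
      refine ⟨e * q * e⁻¹, ?_, by simp⟩
      exact (mem_normalizer_iff.mp (hEQ he) _).mp hq)
    (by
      rintro x hx _ ⟨q, hq, rfl⟩
      have hxC : (x : G) ∈ P ⊓ centralizer (E : Set G) := by
        refine ⟨x.2, mem_centralizer_iff.mpr fun e he => ?_⟩
        have h := congrArg Subtype.val (hx _ ⟨⟨e, hEP he⟩, he, rfl⟩)
        rw [hψ] at h
        exact mul_inv_eq_iff_eq_mul.mp h
      refine Subtype.ext ?_
      rw [hψ]
      exact mul_inv_eq_iff_eq_mul.mpr (mem_centralizer_iff.mp (hC hxC) _ hq))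
  intro q hq
  rw [mem_centralizer_iff]
  intro x hx
  have h := congrArg Subtype.val (key _ ⟨⟨q, hQP hq⟩, hq, rfl⟩ ⟨x, hx⟩)
  rw [hψ] at h
  exact (mul_inv_eq_iff_eq_mul.mp h).symm

/-- For odd `p`: a `p'`-group centralising the fixed points of a `p`-group normalising it is
trivial on every `p`-group invariant under both. -/
theorem le_centralizer_of_fixed_odd [Finite G] {p : ℕ} [Fact p.Prime] (hp : p ≠ 2) :
    ∀ {P Q E : Subgroup G}, IsPGroup p P → (Nat.card Q).Coprime p → IsPGroup p E →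
      Q ≤ normalizer (P : Set G) → E ≤ normalizer (P : Set G) → E ≤ normalizer (Q : Set G) →
      P ⊓ centralizer (E : Set G) ≤ centralizer (Q : Set G) → Q ≤ centralizer (P : Set G) := by
  intro P
  induction hn : Nat.card P using Nat.strong_induction_on generalizing P with
  | _ n ih =>
  intro Q E hP hQ hE hQP hEP hEQ hC
  have hcop : (Nat.card Q).Coprime (Nat.card P) := by
    obtain ⟨k, hk⟩ := IsPGroup.iff_card.mp hP
    exact hk ▸ hQ.pow_right k
  have hsub : ∀ R : Subgroup G, R < P → Q ≤ normalizer (R : Set G) → E ≤ normalizer (R : Set G) →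
      Q ≤ centralizer (R : Set G) := fun R hR h1 h2 =>
    ih _ (hn ▸ Set.ncard_lt_ncard hR (Set.toFinite _)) rfl (hP.to_le hR.le) hQ hE h1 h2 hEQ
      ((inf_le_inf_right _ hR.le).trans hC)
  rcases eq_or_ne ⁅P, Q⁆ P with heq | hne
  · rcases eq_or_ne ⁅P, P⁆ P with heq' | hne'
    · -- only the trivial group is perfect here
      rcases eq_or_ne P ⊥ with rfl | hb
      · intro q _
        rw [mem_centralizer_iff]
        intro x hx
        simp [(mem_bot.mp hx : x = 1)]
      · exact absurd heq' (Lib.Coprime.commutator_lt_of_isPGroup hP hP le_normalizer hb).ne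
    · have hlt : ⁅P, P⁆ < P :=
        lt_of_le_of_ne (Lib.Coprime.commutator_le_of_le_normalizer le_normalizer) hne'
      have h1 : Q ≤ centralizer ((⁅P, P⁆ : Subgroup G) : Set G) :=
        hsub _ hlt (Lib.Coprime.le_normalizer_commutator hQP hQP)
          (Lib.Coprime.le_normalizer_commutator hEP hEP)
      refine le_centralizer_of_class_two hp hP hQ hE hQP hEP hEQ ?_ hC
      -- three subgroups: `P'` commutes with `[P, Q] = P`
      have a1 : ⁅⁅Q, ⁅P, P⁆⁆, P⁆ = ⊥ := by
        rw [(commutator_eq_bot_iff_le_centralizer (H₁ := Q) (H₂ := ⁅P, P⁆)).mpr h1]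
        exact commutator_bot_left P
      have a2 : ⁅⁅⁅P, P⁆, P⁆, Q⁆ = ⊥ := by
        refine le_bot_iff.mp ?_
        refine le_trans (commutator_mono
          (Lib.Coprime.commutator_le_of_le_normalizer
            (Lib.Coprime.le_normalizer_commutator le_normalizer le_normalizer)) le_rfl) ?_
        rw [commutator_comm]
        exact ((commutator_eq_bot_iff_le_centralizer (H₁ := Q) (H₂ := ⁅P, P⁆)).mpr h1).le
      have h2 : ⁅⁅P, Q⁆, ⁅P, P⁆⁆ = ⊥ :=
        commutator_commutator_eq_bot_of_rotate a1 a2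
      rw [heq, commutator_eq_bot_iff_le_centralizer] at h2
      intro a ha b hb c hc
      exact mem_centralizer_iff.mp (h2 hc) _ (commutator_mem_commutator ha hb)
  · have hlt : ⁅P, Q⁆ < P :=
      lt_of_le_of_ne (Lib.Coprime.commutator_le_of_le_normalizer hQP) hne
    have hQQ : Q ≤ normalizer (Q : Set G) := le_normalizer
    have h1 := hsub _ hlt (Lib.Coprime.le_normalizer_commutator hQP hQQ)
      (Lib.Coprime.le_normalizer_commutator hEP hEQ)
    exact Lib.Coprime.le_centralizer_of_commutator_le_centralizer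
      (le_centralizer_iff.mp h1) (Lib.Coprime.coprime_of_le_right hlt.le hcop)

/-- The quadratic case: `E` acts quadratically on `P` and `Q` acts faithfully. -/
theorem le_centralizer_of_fixed_quadratic [Finite G] {p : ℕ} [Fact p.Prime] {P Q E : Subgroup G}
    (hP : IsPGroup p P) (hQ : (Nat.card Q).Coprime p) (hE : IsPGroup p E)
    (hQP : Q ≤ normalizer (P : Set G)) (hEP : E ≤ normalizer (P : Set G))
    (hEQ : E ≤ normalizer (Q : Set G)) (hquad : ⁅⁅P, E⁆, E⁆ = ⊥)
    (hfaith : Q ⊓ centralizer (P : Set G) = ⊥)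
    (hC : P ⊓ centralizer (E : Set G) ≤ centralizer (Q : Set G)) : Q ≤ centralizer (P : Set G) := by
  have hPE : ⁅P, E⁆ ≤ centralizer (Q : Set G) :=
    (le_inf (Lib.Coprime.commutator_le_of_le_normalizer hEP)
      (commutator_eq_bot_iff_le_centralizer.mp hquad)).trans hC
  have hcop : ∀ r ∈ Q, ∀ x ∈ P, Nat.Coprime (orderOf r) (orderOf x) := by
    intro r hr x hx
    obtain ⟨k, hk⟩ := IsPGroup.iff_card.mp hP
    exact Nat.Coprime.coprime_dvd_right (hk ▸ P.orderOf_dvd_natCard hx)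
      ((Nat.Coprime.coprime_dvd_left (Q.orderOf_dvd_natCard hr) hQ).pow_right k)
  refine Lib.Coprime.thompson_PxQ hE hQ hP ?_ hEP hQP hC
  intro e he
  rw [mem_centralizer_iff]
  intro q hq
  have hq' : e * q * e⁻¹ ∈ Q := Lib.Coprime.conj_mem_of_le_normalizer hEQ he hq
  set r := q⁻¹ * (e * q * e⁻¹) with hr
  have hrQ : r ∈ Q := Q.mul_mem (Q.inv_mem hq) hq'
  -- `r` moves every element of `P` by a fixed point of `Q`
  suffices h : r ∈ centralizer (P : Set G) by
    have h1 : r = 1 := mem_bot.mp (hfaith ▸ ⟨hrQ, h⟩)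
    rw [hr, inv_mul_eq_one] at h1
    calc q * e = e * q * e⁻¹ * e := by rw [← h1]
      _ = e * q := by group
  rw [mem_centralizer_iff]
  intro x hx
  have hy : q * x * q⁻¹ ∈ P := Lib.Coprime.conj_mem_of_le_normalizer hQP hq hx
  set c1 := x⁻¹ * (e * x * e⁻¹) with hc1
  set c2 := (q * x * q⁻¹)⁻¹ * (e * (q * x * q⁻¹) * e⁻¹) with hc2
  have hc : ∀ y ∈ P, y⁻¹ * (e * y * e⁻¹) ∈ centralizer (Q : Set G) := fun y hy => hPE <| by
    have := commutator_mem_commutator (P.inv_mem hy) he
    simpa [commutatorElement_def, mul_assoc] using this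
  have hc1Q : q * c1 * q⁻¹ = c1 := mul_inv_eq_iff_eq_mul.mpr (mem_centralizer_iff.mp (hc x hx) q hq)
  have e1 : r * x * r⁻¹ * c1 = x * c2 := by
    have hrc : r * c1 * r⁻¹ = c1 := mul_inv_eq_iff_eq_mul.mpr (mem_centralizer_iff.mp (hc x hx) r hrQ)
    have hc2q : q⁻¹ * c2 * q = c2 := by
      rw [mul_assoc, ← mem_centralizer_iff.mp (hc _ hy) q hq, inv_mul_cancel_left]
    calc r * x * r⁻¹ * c1 = r * x * r⁻¹ * (r * c1 * r⁻¹) := by rw [hrc]
      _ = r * (e * x * e⁻¹) * r⁻¹ := by rw [hc1]; group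
      _ = q⁻¹ * (q * x * q⁻¹ * c2) * q := by rw [hr, hc2]; group
      _ = x * (q⁻¹ * c2 * q) := by group
      _ = x * c2 := by rw [hc2q]
  have hfix : x⁻¹ * (r * x * r⁻¹) = c2 * c1⁻¹ := by
    rw [show r * x * r⁻¹ = x * c2 * c1⁻¹ by rw [← e1]; group]; group
  have hz : x⁻¹ * r * x⁻¹⁻¹ * r⁻¹ = c2 * c1⁻¹ := by rw [← hfix]; group
  have hcomm := Lib.Coprime.commute_of_commute_commutator (a := r) (k := x⁻¹)
    (by rw [hz]; exact (mem_centralizer_iff.mp (mul_mem (hc _ hy) (inv_mem (hc x hx))) r hrQ).symm)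
    (by rw [hz, ← hfix]; exact hcop r hrQ _ (P.mul_mem (P.inv_mem hx)
      (Lib.Coprime.conj_mem_of_le_normalizer hQP hrQ hx)))
  have h' := hcomm.inv_left
  rw [inv_inv] at h'
  exact h'.eq

end Cfsg.Agent.Lib.Transitivity
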