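import Mathlib
import Cfsg.Agent.Lib.PSolvable.HallHigman
import Cfsg.Agent.Lib.PSolvable.CoprimeQuot
import Cfsg.Agent.Lib.Transitivity.Action

/-!
In a `p`-constrained group, an abelian `p`-subgroup `E` containing the `p`-elements of its
centraliser normalises no `p'`-subgroup outside `O_{p'}`.
-/

set_option autoImplicit false

namespace Cfsg.Agent.Lib.Transitivity

open Subgroup
open scoped commutatorElement

variable {G G' : Type*} [Group G] [Group G']

/-- A `p`-element of an image is the image of a `p`-element of the cyclic group of a preimage. -/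
theorem exists_pElement_preimage [Finite G] {p : ℕ} [Fact p.Prime] (f : G →* G') (c : G) {k : ℕ}
    (hk : f c ^ p ^ k = 1) : ∃ s : ℕ, IsPGroup p (zpowers (c ^ s)) ∧ f (c ^ s) = f c := by
  have hp := (Fact.out : p.Prime)
  set j := (orderOf c).factorization p
  set m := orderOf c / p ^ j with hm
  have hcop : m.Coprime (p ^ (k + 1)) := by
    have := Nat.coprime_ordCompl hp (orderOf_pos c).ne'
    exact (this.symm).pow_right _
  obtain ⟨t, ht⟩ := Nat.exists_mul_mod_eq_one_of_coprime hcop (Nat.one_lt_pow (by omega) hp.one_lt)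
  refine ⟨m * t, ?_, ?_⟩
  · have hpow : (c ^ (m * t)) ^ p ^ j = 1 := by
      rw [← pow_mul, show m * t * p ^ j = p ^ j * m * t by ring, hm,
        Nat.ordProj_mul_ordCompl_eq_self, pow_mul, pow_orderOf_eq_one, one_pow]
    rintro ⟨_, z, rfl⟩
    refine ⟨j, Subtype.ext ?_⟩
    show ((c ^ (m * t)) ^ z) ^ p ^ j = 1
    rw [← zpow_natCast, ← zpow_mul, mul_comm z, zpow_mul, zpow_natCast, hpow, one_zpow]
  · have h1 : f c ^ p ^ (k + 1) = 1 := by rw [pow_succ, pow_mul, hk, one_pow]
    rw [map_pow, ← Nat.mod_add_div (m * t) (p ^ (k + 1)), ht.2, pow_add, pow_mul, h1, one_pow,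
      mul_one, pow_one]

theorem le_pPrimeCore_of_isPConstrained [Finite G] {p : ℕ} [Fact p.Prime] (hG : IsPConstrained p G)
    {E Q : Subgroup G} (hE : IsPGroup p E) (hEc : IsMulCommutative E)
    (hEfull : ∀ x ∈ centralizer (E : Set G), IsPGroup p (zpowers x) → x ∈ E)
    (h2 : p = 2 → ∀ S : Subgroup G, IsPGroup p S → ⁅⁅S, S⁆, S⁆ = ⊥)
    (hQ : (Nat.card Q).Coprime p) (hEQ : E ≤ normalizer (Q : Set G)) :
    Q ≤ pPrimeCore p G := by
  set N := pPrimeCore p G with hN
  set f := QuotientGroup.mk' N with hf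
  set P := pCore p (G ⧸ N) with hPdef
  have hP : IsPGroup p P := Lib.PSolvable.pCore_isPGroup
  haveI hPn : P.Normal := inferInstance
  have hcons := Lib.PSolvable.isPConstrained_iff.mp hG
  have hcop : (Nat.card (Q.map f)).Coprime p := hQ.coprime_dvd_left (card_map_dvd Q f)
  have hint : P ⊓ Q.map f = ⊥ := Lib.PSolvable.inf_eq_bot_of_isPGroup_of_coprime hP hcop
  have hEQ' : E.map f ≤ normalizer ((Q.map f : Subgroup (G ⧸ N)) : Set (G ⧸ N)) := by
    rintro _ ⟨e, he, rfl⟩
    refine Lib.PSolvable.mem_normalizer_of_conj_mem ?_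
    rintro _ ⟨q, hq, rfl⟩
    exact ⟨e * q * e⁻¹, (mem_normalizer_iff.mp (hEQ he) q).mp hq, by simp⟩
  have htop : ∀ H : Subgroup (G ⧸ N), H ≤ normalizer (P : Set (G ⧸ N)) := fun H => by
    rw [normalizer_eq_top_iff.mpr hPn]; exact le_top
  -- the fixed points of `E` in `P` lie in the image of `E`, so are centralised by `Q`
  have hfix : P ⊓ centralizer ((E.map f : Subgroup (G ⧸ N)) : Set (G ⧸ N)) ≤
      centralizer ((Q.map f : Subgroup (G ⧸ N)) : Set (G ⧸ N)) := by
    intro y hy
    have hyE : y ∈ E.map f := by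
      have hyC := hy.2
      rw [Lib.PSolvable.centralizer_map_mk' N Lib.PSolvable.pPrimeCore_coprime hE] at hyC
      obtain ⟨c, hc, rfl⟩ := hyC
      obtain ⟨k, hk⟩ := hP ⟨_, hy.1⟩
      obtain ⟨s, hs, hfs⟩ := exists_pElement_preimage (QuotientGroup.mk' N) c
        (congrArg Subtype.val hk : _)
      exact ⟨c ^ s, hEfull _ (pow_mem hc s) hs, hfs⟩
    rw [mem_centralizer_iff]
    intro q hq
    have h1 : y * q * y⁻¹ * q⁻¹ ∈ P ⊓ Q.map f := by
      refine ⟨?_, (Q.map f).mul_mem ((mem_normalizer_iff.mp (hEQ' hyE) q).mp hq) ((Q.map f).inv_mem hq)⟩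
      rw [mul_assoc, mul_assoc]
      exact P.mul_mem hy.1 (by rw [← mul_assoc]; exact hPn.conj_mem _ (P.inv_mem hy.1) q)
    rw [hint, mem_bot, mul_inv_eq_one, mul_inv_eq_iff_eq_mul] at h1
    exact h1.symm
  have hmain : Q.map f ≤ centralizer (P : Set (G ⧸ N)) := by
    rcases eq_or_ne p 2 with rfl | hp
    · refine le_centralizer_of_fixed_quadratic hP hcop (hE.map f) (htop _) (htop _) hEQ' ?_ ?_ hfix
      · obtain ⟨S, hS⟩ := hE.exists_le_sylow
        have hPS : P ≤ (S : Subgroup G).map f := by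
          have := hP.le_sylow_of_normal (S.mapSurjective (QuotientGroup.mk'_surjective N))
          rwa [Sylow.coe_mapSurjective] at this
        refine le_bot_iff.mp ?_
        calc ⁅⁅P, E.map f⁆, E.map f⁆
            ≤ ⁅⁅(S : Subgroup G).map f, (S : Subgroup G).map f⁆, (S : Subgroup G).map f⁆ :=
              commutator_mono (commutator_mono hPS (map_mono hS)) (map_mono hS)
          _ = ⊥ := by rw [← map_commutator, ← map_commutator, h2 rfl S S.2, Subgroup.map_bot]
      · refine le_bot_iff.mp (le_trans ?_ hint.le)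
        exact le_inf (inf_le_right.trans hcons) inf_le_left
    · exact le_centralizer_of_fixed_odd hp hP hcop (hE.map f) (htop _) (htop _) hEQ' hfix
  have hbot : Q.map f = ⊥ := le_bot_iff.mp ((le_inf (hmain.trans hcons) le_rfl).trans hint.le)
  rw [Subgroup.map_eq_bot_iff, hf, QuotientGroup.ker_mk'] at hbot
  exact hbot

end Cfsg.Agent.Lib.Transitivity
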