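import Mathlib
import Cfsg.Agent.Lib.Coprime.Basic
import Cfsg.Agent.Lib.Coprime.Quotient

/-!
If a group `⟨a, b⟩` of order `p²` and exponent `p` acts on a solvable `p'`-group `W` and all the
`C_W(c)`, `c ≠ 1`, lie in `D`, then `W ≤ D`.
-/

set_option autoImplicit false

namespace Cfsg.Agent.Lib.Transitivity

open Subgroup
open scoped commutatorElement

variable {G : Type*} [Group G]

/-- Conjugation on the abelianization of a normalised subgroup. -/
def abConj (W : Subgroup G) :
    normalizer (W : Set G) →* Monoid.End (Abelianization W) where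
  toFun g := Abelianization.map (W.normalizerMonoidHom g : W ≃* W).toMonoidHom
  map_one' := by
    refine Abelianization.hom_ext _ _ (MonoidHom.ext fun w => ?_)
    show Abelianization.of (W.normalizerMonoidHom 1 w) = Abelianization.of w
    rw [map_one]
    rfl
  map_mul' g h := by
    refine Abelianization.hom_ext _ _ (MonoidHom.ext fun w => ?_)
    show Abelianization.of (W.normalizerMonoidHom (g * h) w) =
      Abelianization.of (W.normalizerMonoidHom g (W.normalizerMonoidHom h w))
    rw [map_mul]
    rfl

theorem abConj_apply (W : Subgroup G) (g : normalizer (W : Set G)) (w : W) :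
    abConj W g (Abelianization.of w) = Abelianization.of (W.normalizerMonoidHom g w) :=
  Abelianization.map_of _ _

theorem abConj_mul_apply (W : Subgroup G) (g h : normalizer (W : Set G)) (x : Abelianization W) :
    abConj W (g * h) x = abConj W g (abConj W h x) :=
  DFunLike.congr_fun (map_mul (abConj W) g h) x

/-- If `⁅W, ⟨c⟩⁆ = W` then the norm of `c` is trivial on `W / W'`. -/
theorem norm_eq_one_of_commutator_eq {p : ℕ} {W : Subgroup G}
    {c : normalizer (W : Set G)} (hc : c ^ p = 1)
    (hW : ⁅W, zpowers (c : G)⁆ = W) (x : Abelianization W) :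
    ∏ j ∈ Finset.range p, abConj W (c ^ j) x = 1 := by
  let N : Abelianization W →* Abelianization W :=
    { toFun := fun x => ∏ j ∈ Finset.range p, abConj W (c ^ j) x
      map_one' := by simp
      map_mul' := fun x y => by simp [Finset.prod_mul_distrib] }
  suffices h : N.comp Abelianization.of = (1 : Abelianization W →* Abelianization W).comp Abelianization.of by
    exact DFunLike.congr_fun (Abelianization.hom_ext N 1 h) x
  have hN : ∀ w : W, N (abConj W c (Abelianization.of w)) = N (Abelianization.of w) := by
    intro w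
    show ∏ j ∈ Finset.range p, abConj W (c ^ j) (abConj W c _) = ∏ j ∈ Finset.range p, abConj W (c ^ j) _
    have hs : ∀ j, abConj W (c ^ j) (abConj W c (Abelianization.of w)) =
        abConj W (c ^ (j + 1)) (Abelianization.of w) := fun j => by
      rw [pow_succ, map_mul (abConj W)]; rfl
    simp only [hs]
    have h1 := Finset.prod_range_succ (fun j => abConj W (c ^ j) (Abelianization.of w)) p
    have h2 := Finset.prod_range_succ' (fun j => abConj W (c ^ j) (Abelianization.of w)) p
    rw [h1, hc] at h2
    simp only [pow_zero] at h2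
    exact (mul_right_cancel h2).symm
  refine MonoidHom.ext fun w => ?_
  have hsub : ⁅W, zpowers (c : G)⁆ ≤ (N.comp Abelianization.of).ker.map W.subtype := by
    rw [commutator_le]
    rintro y hy _ ⟨k, rfl⟩
    let z : W := W.normalizerMonoidHom (c ^ k) ⟨y, hy⟩⁻¹
    refine ⟨⟨y, hy⟩ * z, ?_, ?_⟩
    · rw [SetLike.mem_coe, MonoidHom.mem_ker, MonoidHom.comp_apply, map_mul, map_mul]
      have hz : N (Abelianization.of z) = N (Abelianization.of (⟨y, hy⟩ : W)⁻¹) := by
        show N (Abelianization.of (W.normalizerMonoidHom (c ^ k) ⟨y, hy⟩⁻¹)) = _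
        rw [← abConj_apply]
        generalize (Abelianization.of (⟨y, hy⟩ : W)⁻¹) = t
        induction k with
        | zero => rw [zpow_zero, map_one (abConj W)]; rfl
        | succ n ihn =>
          rw [zpow_add_one, ← ihn, map_mul (abConj W)]
          obtain ⟨u, rfl⟩ := QuotientGroup.mk_surjective t
          show N (abConj W (c ^ (n:ℤ)) (abConj W c (Abelianization.of u))) =
            N (abConj W (c ^ (n:ℤ)) (Abelianization.of u))
          have hcomm : ∀ v, abConj W (c ^ (n:ℤ)) (abConj W c v) =
              abConj W c (abConj W (c ^ (n:ℤ)) v) := fun v => by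
            have := congrArg (fun f : Monoid.End (Abelianization W) => f v)
              (((Commute.self_zpow c (n:ℤ)).map (abConj W)).eq)
            exact this.symm
          rw [hcomm, abConj_apply W (c ^ (n:ℤ)) u, hN]
        | pred n ihn =>
          rw [← ihn]
          obtain ⟨u, rfl⟩ := QuotientGroup.mk_surjective t
          have hstep : abConj W c (abConj W (c ^ (-(n:ℤ) - 1)) (Abelianization.of u)) =
              abConj W (c ^ (-(n:ℤ))) (Abelianization.of u) := by
            rw [← abConj_mul_apply, ← zpow_one_add]
            congr 3; ring_nf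
          show N (abConj W (c ^ (-(n:ℤ) - 1)) (Abelianization.of u)) =
            N (abConj W (c ^ (-(n:ℤ))) (Abelianization.of u))
          rw [← hstep, abConj_apply W (c ^ (-(n:ℤ) - 1)) u, hN]
      rw [hz, ← map_mul, ← map_mul, mul_inv_cancel, map_one, map_one]
    · show y * (((c ^ k : normalizer (W : Set G)) : G) * y⁻¹ * ((c ^ k : normalizer (W : Set G)) : G)⁻¹) = _
      simp [commutatorElement_def, mul_assoc]
  obtain ⟨w', hw', hww⟩ := hsub (hW.symm ▸ w.2 : (w : G) ∈ ⁅W, zpowers (c : G)⁆)
  obtain rfl : w' = w := Subtype.ext hww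
  exact hw'

/-- A group of order `p²` and exponent `p` acting on a solvable `p'`-group `W`: if every fixed
point subgroup of a nontrivial element lies in `D` then `W ≤ D`. -/
theorem le_of_centralizers_le [Finite G] {p : ℕ} [Fact p.Prime] {a b : G} (ha : a ^ p = 1)
    (hb : b ^ p = 1) (hab : Commute a b) (hb1 : b ≠ 1) (hindep : a ∉ zpowers b) :
    ∀ {W D : Subgroup G}, Group.IsSolvable W → (Nat.card W).Coprime p →
      a ∈ normalizer (W : Set G) → b ∈ normalizer (W : Set G) →
      (∀ i j : ℕ, a ^ i * b ^ j ≠ 1 → W ⊓ centralizer ({a ^ i * b ^ j} : Set G) ≤ D) → W ≤ D := by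
  intro W
  induction hn : Nat.card W using Nat.strong_induction_on generalizing W with
  | _ n ih =>
  intro D hsolv hcop haN hbN hfix
  subst hn
  by_cases hred : ∃ i j : ℕ, a ^ i * b ^ j ≠ 1 ∧ ⁅W, zpowers (a ^ i * b ^ j)⁆ ≠ W
  · obtain ⟨i, j, hij, hne⟩ := hred
    set c := a ^ i * b ^ j with hc
    have hcN : c ∈ normalizer (W : Set G) := mul_mem (pow_mem haN i) (pow_mem hbN j)
    have hC : zpowers c ≤ normalizer (W : Set G) := zpowers_le.mpr hcN
    have hlt : ⁅W, zpowers c⁆ < W :=
      lt_of_le_of_ne (Lib.Coprime.commutator_le_of_le_normalizer hC) hne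
    have hfixc : ∀ g : G, Commute g a → Commute g b →
        g ∈ normalizer ((zpowers c : Subgroup G) : Set G) := by
      intro g hga hgb
      refine centralizer_le_normalizer _ (mem_centralizer_iff.mpr ?_)
      rintro _ ⟨k, rfl⟩
      exact ((hga.pow_right i).mul_right (hgb.pow_right j)).zpow_right k |>.eq.symm
    have hsolv' := Lib.Coprime.isSolvable_of_le hlt.le hsolv
    have hW1 : ⁅W, zpowers c⁆ ≤ D :=
      ih _ (Set.ncard_lt_ncard hlt (Set.toFinite _)) rfl hsolv'
        (hcop.coprime_dvd_left (card_dvd_of_le hlt.le))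
        (Lib.Coprime.le_normalizer_commutator (zpowers_le.mpr haN)
          (zpowers_le.mpr (hfixc a (Commute.refl a) hab)) (mem_zpowers a))
        (Lib.Coprime.le_normalizer_commutator (zpowers_le.mpr hbN)
          (zpowers_le.mpr (hfixc b hab.symm (Commute.refl b))) (mem_zpowers b))
        (fun i j h => (inf_le_inf_right _ hlt.le).trans (hfix i j h))
    have hcop' : (Nat.card (zpowers c)).Coprime (Nat.card (⁅W, zpowers c⁆ : Subgroup G)) := by
      rw [Nat.card_zpowers]
      have hcp : orderOf c ∣ p := by
        refine orderOf_dvd_of_pow_eq_one ?_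
        rw [hc, (hab.pow_pow i j).mul_pow, ← pow_mul, ← pow_mul, mul_comm i, mul_comm j, pow_mul,
          pow_mul, ha, hb]
        simp
      exact Nat.Coprime.coprime_dvd_left hcp
        (hcop.coprime_dvd_left (card_dvd_of_le hlt.le)).symm
    rw [← Lib.Coprime.commutator_sup_centralizer hC hcop' (Or.inr hsolv')]
    refine sup_le hW1 ((inf_le_inf_left _ (centralizer_le ?_)).trans (hfix i j hij))
    simp [← hc]
  · push Not at hred
    rcases eq_or_ne W ⊥ with rfl | hne
    · exact bot_le
    exfalso
    haveI := hsolv
    haveI : Nontrivial W := (nontrivial_iff_ne_bot W).mpr hne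
    let A : normalizer (W : Set G) := ⟨a, haN⟩
    let B : normalizer (W : Set G) := ⟨b, hbN⟩
    have hA : A ^ p = 1 := Subtype.ext ha
    have hB : B ^ p = 1 := Subtype.ext hb
    have hAB : Commute A B := Subtype.ext hab
    have hp := (Fact.out : p.Prime)
    have hx : ∀ x : Abelianization W, x ^ p = 1 := by
      intro x
      have hb' : ∀ j, ∀ (y : Abelianization W), 0 < j → j < p →
          ∏ i ∈ Finset.range p, abConj W ((B ^ j) ^ i) y = 1 := by
        intro j y hj hjp
        refine norm_eq_one_of_commutator_eq ?_ ?_ y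
        · rw [← pow_mul, mul_comm, pow_mul, hB, one_pow]
        · have := hred 0 j (by
            rw [pow_zero, one_mul]
            intro h
            exact Nat.not_dvd_of_pos_of_lt hj hjp (orderOf_eq_prime hb hb1 ▸ orderOf_dvd_of_pow_eq_one h))
          simpa [B] using this
      have hab' : ∀ i, i < p → ∏ j ∈ Finset.range p, abConj W ((A * B ^ i) ^ j) x = 1 := by
        intro i hi
        refine norm_eq_one_of_commutator_eq ?_ ?_ x
        · rw [(hAB.pow_right i).mul_pow, hA, ← pow_mul, mul_comm, pow_mul, hB, one_pow, one_mul]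
        · have := hred 1 i (by
            rw [pow_one]
            intro h
            exact hindep (by rw [eq_inv_of_mul_eq_one_left h]; exact inv_mem (npow_mem_zpowers b i)))
          simpa [A, B] using this
      have h0 : ∏ i ∈ Finset.range p, ∏ j ∈ Finset.range p, abConj W ((A * B ^ i) ^ j) x = 1 :=
        Finset.prod_eq_one fun i hi => hab' i (Finset.mem_range.mp hi)
      rw [Finset.prod_comm] at h0
      rw [Finset.prod_eq_single_of_mem 0 (Finset.mem_range.mpr hp.pos) ?_] at h0
      · simpa using h0
      · intro j hj hj0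
        have hsp : ∀ i, abConj W ((A * B ^ i) ^ j) x = abConj W (A ^ j) (abConj W ((B ^ j) ^ i) x) := by
          intro i
          rw [(hAB.pow_right i).mul_pow, map_mul (abConj W), ← pow_mul, mul_comm i, pow_mul]
          rfl
        simp only [hsp, ← map_prod]
        rw [hb' j x (Nat.pos_of_ne_zero hj0) (Finset.mem_range.mp hj), map_one]
    have htriv : ∀ x : Abelianization W, x = 1 := by
      intro x
      rw [← orderOf_eq_one_iff]
      refine Nat.eq_one_of_dvd_coprimes ?_ (orderOf_dvd_of_pow_eq_one (hx x)) (orderOf_dvd_natCard x)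
      exact (hcop.coprime_dvd_left (card_quotient_dvd_card _)).symm
    obtain ⟨w, -, hw⟩ := SetLike.exists_of_lt
      (Group.IsSolvable.commutator_lt_top_of_nontrivial W)
    exact hw ((QuotientGroup.eq_one_iff w).mp (htriv (Abelianization.of w)))

end Cfsg.Agent.Lib.Transitivity
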