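import Cfsg.Agent.Lib.Transitivity.Constrained
import Cfsg.Agent.Lib.CriticalAut.Basic

/-!
In a `p`-constrained group, `p` odd, an abelian `p`-subgroup `E` containing the elements of
order `p` of its centraliser normalises no `p'`-subgroup outside `O_{p'}`.
-/

set_option autoImplicit false
set_option linter.unusedSectionVars false

namespace Cfsg.Agent.Lib.Transitivity

open Subgroup

variable {G : Type*} [Group G] [Finite G] {p : ℕ} [Fact p.Prime]

/-- A normal `p`-subgroup has an invariant subgroup of exponent `p` detecting the elements of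
order prime to `p`. -/
theorem exists_detecting_normal (hp : p ≠ 2) {P : Subgroup G} [hPn : P.Normal] (hP : IsPGroup p P) :
    ∃ D : Subgroup G, D.Normal ∧ D ≤ P ∧ (∀ d ∈ D, d ^ p = 1) ∧
      ∀ g : G, (orderOf g).Coprime p → (∀ d ∈ D, g * d = d * g) → g ∈ centralizer (P : Set G) := by
  obtain ⟨D, hDinv, -, hDexp, -, hdet, -⟩ :=
    CriticalAut.exists_detecting hP (⊤ : Subgroup (MulAut P)) le_top
  let φ : G →* MulAut P := MulAut.conjNormal
  have hval : ∀ (g : G) (x : P), ((φ g x : P) : G) = g * x * g⁻¹ := fun g x => MulAut.conjNormal_apply g x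
  refine ⟨D.map P.subtype, ⟨?_⟩, map_subtype_le _, ?_, fun g hg hfix => ?_⟩
  · rintro _ ⟨d, hd, rfl⟩ g
    refine ⟨φ g d, ?_, hval g d⟩
    rw [← hDinv (φ g) (Subgroup.mem_top _)]
    exact mem_map_of_mem _ hd
  · rintro _ ⟨d, hd, rfl⟩
    rcases hDexp d hd with h | ⟨h, -⟩
    · exact congrArg Subtype.val h
    · exact absurd h hp
  · have h1 : φ g = 1 := hdet (φ g) (Subgroup.mem_top _)
      (hg.coprime_dvd_left (orderOf_map_dvd φ g)) fun d hd => Subtype.ext (by
        rw [hval, hfix (d : G) ⟨d, hd, rfl⟩, mul_inv_cancel_right])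
    rw [mem_centralizer_iff]
    intro x hx
    have h2 := hval g ⟨x, hx⟩
    rw [h1] at h2
    exact eq_mul_inv_iff_mul_eq.mp h2

theorem le_pPrimeCore_of_omega (hp : p ≠ 2) (hG : Cfsg.IsPConstrained p G) {E : Subgroup G}
    (hEc : IsMulCommutative E) (hE : IsPGroup p E)
    (hΩ : ∀ x ∈ centralizer (E : Set G), orderOf x = p → x ∈ E) {Q : Subgroup G}
    (hQ : ¬ p ∣ Nat.card Q) (hEQ : E ≤ normalizer (Q : Set G)) : Q ≤ Cfsg.pPrimeCore p G := by
  have hpp : p.Prime := Fact.out
  set N := Cfsg.pPrimeCore p G with hN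
  set f := QuotientGroup.mk' N with hf
  set P := Cfsg.pCore p (G ⧸ N) with hPdef
  have hP : IsPGroup p P := Lib.PSolvable.pCore_isPGroup
  haveI hPn : P.Normal := inferInstance
  have hcons := Lib.PSolvable.isPConstrained_iff.mp hG
  obtain ⟨D, hDn, hDP, hDexp, hdet⟩ := exists_detecting_normal hp (P := P) hP
  haveI := hDn
  have hQc : (Nat.card Q).Coprime p := (hpp.coprime_iff_not_dvd.mpr hQ).symm
  have hcop : (Nat.card (Q.map f)).Coprime p := hQc.coprime_dvd_left (card_map_dvd Q f)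
  have hint : P ⊓ Q.map f = ⊥ := Lib.PSolvable.inf_eq_bot_of_isPGroup_of_coprime hP hcop
  have hEQ' : E.map f ≤ normalizer ((Q.map f : Subgroup (G ⧸ N)) : Set (G ⧸ N)) := by
    rintro _ ⟨e, he, rfl⟩
    refine Lib.PSolvable.mem_normalizer_of_conj_mem ?_
    rintro _ ⟨q, hq, rfl⟩
    exact ⟨e * q * e⁻¹, (mem_normalizer_iff.mp (hEQ he) q).mp hq, by simp⟩
  have htop : ∀ H : Subgroup (G ⧸ N), H ≤ normalizer (D : Set (G ⧸ N)) := fun H => by
    rw [normalizer_eq_top_iff.mpr hDn]; exact le_top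
  have hfix : D ⊓ centralizer ((E.map f : Subgroup (G ⧸ N)) : Set (G ⧸ N)) ≤
      centralizer ((Q.map f : Subgroup (G ⧸ N)) : Set (G ⧸ N)) := by
    intro y hy
    have hyE : y ∈ E.map f := by
      have hyC := hy.2
      rw [Lib.PSolvable.centralizer_map_mk' N Lib.PSolvable.pPrimeCore_coprime hE] at hyC
      obtain ⟨c, hc, rfl⟩ := hyC
      have hyp : f c ^ p = 1 := hDexp _ hy.1
      obtain ⟨s, hs, hfs⟩ := exists_pElement_preimage (QuotientGroup.mk' N) c (k := 1)
        (by rw [pow_one]; exact hyp)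
      refine ⟨c ^ s, ?_, hfs⟩
      have h1 : (c ^ s) ^ p ∈ N := by
        rw [← QuotientGroup.ker_mk' N, MonoidHom.mem_ker, map_pow, hfs]
        exact hyp
      have h2 : (c ^ s) ^ p = 1 := by
        refine mem_bot.mp ?_
        rw [← Lib.PSolvable.inf_eq_bot_of_isPGroup_of_coprime hs
          (Lib.PSolvable.pPrimeCore_coprime (G := G) (p := p))]
        exact ⟨pow_mem (mem_zpowers _) p, h1⟩
      by_cases h3 : c ^ s = 1
      · rw [h3]; exact one_mem _
      · exact hΩ _ (pow_mem hc s) (orderOf_eq_prime h2 h3)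
    rw [mem_centralizer_iff]
    intro q hq
    have h1 : y * q * y⁻¹ * q⁻¹ ∈ P ⊓ Q.map f := by
      refine ⟨?_, (Q.map f).mul_mem ((mem_normalizer_iff.mp (hEQ' hyE) q).mp hq)
        ((Q.map f).inv_mem hq)⟩
      rw [mul_assoc, mul_assoc]
      exact P.mul_mem (hDP hy.1)
        (by rw [← mul_assoc]; exact hPn.conj_mem _ (P.inv_mem (hDP hy.1)) q)
    rw [hint, mem_bot, mul_inv_eq_one, mul_inv_eq_iff_eq_mul] at h1
    exact h1.symm
  have hD := le_centralizer_of_fixed_odd hp (hP.to_le hDP) hcop (hE.map f) (htop _) (htop _) hEQ' hfix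
  have hmain : Q.map f ≤ centralizer (P : Set (G ⧸ N)) := fun q hq =>
    hdet q (hcop.coprime_dvd_left ((Q.map f).orderOf_dvd_natCard hq)) fun d hd =>
      (mem_centralizer_iff.mp (hD hq) d hd).symm
  have hbot : Q.map f = ⊥ := le_bot_iff.mp ((le_inf (hmain.trans hcons) le_rfl).trans hint.le)
  rw [Subgroup.map_eq_bot_iff, hf, QuotientGroup.ker_mk'] at hbot
  exact hbot

end Cfsg.Agent.Lib.Transitivity
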